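import Groth.Prelude.Def_ConstAct2
import Groth.Prelude.Def_Hoch

/-!
# Comodules over the functions on a finite group
-/

set_option backward.isDefEq.respectTransparency false
set_option backward.isDefEq.respectTransparency.types false
set_option autoImplicit false

universe u

open TensorProduct

namespace GrothLib.ConstComod

variable (R : Type u) [CommRing R] (G : Type u) [Group G] [Fintype G] [DecidableEq G]
variable (M : Type u) [AddCommGroup M] [Module R M]

/-- `id ⊗ ev g` followed by the right unitor. -/
noncomputable def comp (g : G) : M ⊗[R] ConstGrp.F R G →ₗ[R] M :=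
  (TensorProduct.rid R M).toLinearMap ∘ₗ (ConstGrp.ev R g).toLinearMap.lTensor M

variable {R G M}

@[simp] theorem comp_tmul (g : G) (m : M) (f : ConstGrp.F R G) : comp R G M g (m ⊗ₜ[R] f) = f g • m := by
  simp [comp]

theorem eq_sum (t : M ⊗[R] ConstGrp.F R G) : t = ∑ g : G, comp R G M g t ⊗ₜ[R] ConstGrp.e R g := by
  induction t with
  | zero => simp
  | tmul m f =>
    conv_lhs => rw [ConstGrp.eq_sum_smul_e f]
    simp only [comp_tmul, TensorProduct.tmul_sum, TensorProduct.smul_tmul]
  | add x y hx hy => simp only [map_add, TensorProduct.add_tmul, Finset.sum_add_distrib, ← hx, ← hy]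

theorem ext_comp {t t' : M ⊗[R] ConstGrp.F R G} (h : ∀ g, comp R G M g t = comp R G M g t') : t = t' := by
  rw [eq_sum t, eq_sum t']
  exact Finset.sum_congr rfl fun g _ => by rw [h g]

theorem comp_sum_tmul_e (g : G) (m : G → M) :
    comp R G M g (∑ h : G, m h ⊗ₜ[R] ConstGrp.e R h) = m g := by
  simp [map_sum, ConstGrp.e_apply]

variable (R G M) [HopfRep.Comod R (ConstGrp.F R G) M]

/-- The endomorphism attached to a group element. -/
noncomputable def op (g : G) : M →ₗ[R] M :=
  comp R G M g ∘ₗ HopfRep.Comod.coact (k := R) (A := ConstGrp.F R G)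

variable {R G M}

theorem op_mul (a b : G) (m : M) : op R G M (a * b) m = op R G M a (op R G M b m) := by
  let Φ : M ⊗[R] (ConstGrp.F R G ⊗[R] ConstGrp.F R G) →ₗ[R] M :=
    (TensorProduct.rid R M).toLinearMap ∘ₗ
      ((TensorProduct.lid R R).toLinearMap ∘ₗ
        TensorProduct.map (ConstGrp.ev R a).toLinearMap (ConstGrp.ev R b).toLinearMap).lTensor M
  have hc := DFunLike.congr_fun (congrArg (Φ ∘ₗ ·) (HopfRep.Comod.coassoc (k := R) (A := ConstGrp.F R G) (V := M))) m
  simp only [LinearMap.comp_apply, LinearEquiv.coe_coe] at hc
  have h₁ : ∀ t : M ⊗[R] ConstGrp.F R G,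
      Φ ((CoalgebraStruct.comul (R := R) (A := ConstGrp.F R G)).lTensor M t) = comp R G M (a * b) t := by
    intro t
    induction t with
    | zero => simp
    | tmul x f =>
      simp only [LinearMap.lTensor_tmul, comp_tmul, Φ, LinearMap.comp_apply, LinearEquiv.coe_coe]
      rw [← ConstGrp.pair_comul R G f a b]
      generalize CoalgebraStruct.comul (R := R) f = s
      induction s with
      | zero => simp
      | tmul u v => simp [ConstGrp.pair_tmul, smul_smul]
      | add p q hp hq => simp_all [map_add, add_smul, TensorProduct.tmul_add]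
    | add x y hx hy => simp only [map_add, hx, hy]
  have h₂ : ∀ t : M ⊗[R] ConstGrp.F R G,
      Φ (TensorProduct.assoc R M _ _ ((HopfRep.Comod.coact (k := R) (A := ConstGrp.F R G)).rTensor _ t)) =
        op R G M a (comp R G M b t) := by
    intro t
    induction t with
    | zero => simp
    | tmul x f =>
      simp only [LinearMap.rTensor_tmul, comp_tmul, map_smul]
      change _ = f b • comp R G M a (HopfRep.Comod.coact (k := R) (A := ConstGrp.F R G) x)
      generalize HopfRep.Comod.coact (k := R) (A := ConstGrp.F R G) x = s
      induction s with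
      | zero => simp
      | tmul u v => simp [Φ, smul_smul, mul_comm]
      | add p q hp hq => simp_all [map_add, smul_add, TensorProduct.add_tmul]
    | add x y hx hy => simp only [map_add, hx, hy]
  rw [h₁, h₂] at hc
  exact hc.symm

theorem op_one (m : M) : op R G M 1 m = m := by
  have hc := DFunLike.congr_fun (congrArg ((TensorProduct.rid R M).toLinearMap ∘ₗ ·)
    (HopfRep.Comod.counit_comp (k := R) (A := ConstGrp.F R G) (V := M))) m
  simp only [LinearMap.comp_apply, LinearEquiv.coe_coe, LinearMap.flip_apply, TensorProduct.mk_apply, TensorProduct.rid_tmul,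
    one_smul] at hc
  exact hc

theorem coact_eq_sum (m : M) :
    HopfRep.Comod.coact (k := R) (A := ConstGrp.F R G) m = ∑ g : G, op R G M g m ⊗ₜ[R] ConstGrp.e R g :=
  eq_sum _

section Alg

variable (B : Type u) [CommRing B] [Algebra R B] [HopfRep.Comod R (ConstGrp.F R G) B]
variable [GLin.IsCoactAlg R (ConstGrp.F R G) B]

theorem comp_mul (g : G) (s t : B ⊗[R] ConstGrp.F R G) : comp R G B g (s * t) = comp R G B g s * comp R G B g t := by
  induction s with
  | zero => simp
  | tmul x f =>
    induction t with
    | zero => simp
    | tmul y f' => simp [smul_smul, mul_comm]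
    | add p q hp hq => simp only [map_add, mul_add, hp, hq]
  | add p q hp hq => simp only [map_add, add_mul, hp, hq]

variable (R G)

/-- The action of the group on a comodule algebra over its functions. -/
@[reducible] noncomputable def action : MulSemiringAction G B where
  smul g b := op R G B g b
  one_smul := op_one
  mul_smul := op_mul
  smul_zero g := (op R G B g).map_zero
  smul_add g := (op R G B g).map_add
  smul_one g := by
    change comp R G B g (HopfRep.Comod.coact (k := R) (A := ConstGrp.F R G) (1 : B)) = 1
    rw [GLin.IsCoactAlg.coact_one (k := R) (A := ConstGrp.F R G) (R := B), Algebra.TensorProduct.one_def, comp_tmul]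
    simp
  smul_mul g x y := by
    change comp R G B g (HopfRep.Comod.coact (k := R) (A := ConstGrp.F R G) (x * y)) = _
    rw [GLin.IsCoactAlg.coact_mul (k := R) (A := ConstGrp.F R G) (R := B) x y, comp_mul]
    rfl

theorem smulComm : letI := action R G B; SMulCommClass G R B :=
  letI := action R G B; ⟨fun g r b => (op R G B g).map_smul r b⟩

end Alg

theorem invariants_eq (B : Type u) [CommRing B] [Algebra R B] [MulSemiringAction G B] [SMulCommClass G R B]
    [HopfRep.Comod R (ConstGrp.F R G) B] [GLin.IsCoactAlg R (ConstGrp.F R G) B]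
    (h : ConstAct.coactLin R B G = HopfRep.Comod.coact (k := R) (A := ConstGrp.F R G) (V := B)) :
    GLin.invariants R (ConstGrp.F R G) B = ConstAct.inv R B G := by
  ext b
  change HopfRep.Comod.coact (k := R) (A := ConstGrp.F R G) b = b ⊗ₜ[R] (1 : ConstGrp.F R G) ↔ ∀ g : G, g • b = b
  rw [← h, ConstAct.coactLin_apply, ← ConstGrp.sum_e (R := R) (G := G), TensorProduct.tmul_sum]
  refine ⟨fun e g => ?_, fun e => Finset.sum_congr rfl fun g _ => by rw [e g]⟩
  simpa only [comp_sum_tmul_e] using congrArg (comp R G B g) e

end GrothLib.ConstComod
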